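import Cfsg.Agent.Lib.Helper12.TCG.SuzQa6048.Rel0
import Cfsg.Agent.Lib.Helper12.TCG.SuzQa6048.Rel1
import Cfsg.Agent.Lib.Helper12.TCG.SuzQa6048.Rel2
import Cfsg.Agent.Lib.Helper12.TCG.SuzQa6048.Rel3
import Cfsg.Agent.Lib.Helper12.TCG.SuzQa6048.Tab
import Cfsg.Agent.Lib.Helper12.SuzM.Pres2

/-! the permutation representation for SuzQa6048 (generated, helper12) -/

set_option autoImplicit false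
set_option maxRecDepth 100000
set_option linter.unusedSimpArgs false
set_option Elab.async false

namespace Cfsg.Agent.Lib.Helper12.TCG.SuzQa6048

open Cfsg.Agent.Lib.Helper12.TC Cfsg.Agent.Lib.Helper12.TCG Cfsg.Agent.Lib.Helper12.SuzM.Pres2

theorem htN : tN = cN := rfl

theorem hperm0 : permOneG 18364758544493060865 TT 0 tN = true :=
  permOneG_of_OK (permOK_step hperm0_0 rfl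
    (permOK_start 18364758544493060865 TT 0 tN))

theorem hperm1 : permOneG 18364758544493060865 TT 1 tN = true :=
  permOneG_of_OK (permOK_step hperm1_0 rfl
    (permOK_start 18364758544493060865 TT 1 tN))

theorem hperm2 : permOneG 18364758544493060865 TT 2 tN = true :=
  permOneG_of_OK (permOK_step hperm2_0 rfl
    (permOK_start 18364758544493060865 TT 2 tN))

theorem hperm3 : permOneG 18364758544493060865 TT 3 tN = true :=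
  permOneG_of_OK (permOK_step hperm3_0 rfl
    (permOK_start 18364758544493060865 TT 3 tN))

theorem hperm : permG cIV TT 4 cN = true := by
  refine permG_of_ones (fun x hx => ?_)
  interval_cases x
  · exact hperm0
  · exact hperm1
  · exact hperm2
  · exact hperm3

/-- words as powers -/
def specs : List (List ℕ × ℕ) :=
  [([0], 7),
   ([2], 7),
   ([0, 0, 3, 0, 3, 0, 3, 1, 2, 0, 2, 1, 2, 1, 2, 1, 1, 3], 1),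
   ([3, 0, 0, 3, 3, 0, 0, 3, 0, 2, 1, 1, 2, 2, 1, 1, 2, 1], 1),
   ([2, 1, 1, 2, 2, 1, 1, 2, 0, 3, 0, 0, 3, 3, 0, 0, 3, 1], 1),
   ([2, 0, 3, 0, 3, 1, 2, 2, 0, 3, 3, 0, 2, 1, 2, 1, 3, 1], 1),
   ([3, 1, 2, 1, 2, 1, 2, 2, 0, 3, 3, 0, 3, 0, 3, 0, 2, 1], 1),
   ([0, 2, 0, 0, 3, 1, 1, 1, 2, 0, 0, 0, 2, 1, 1, 3, 1, 3, 3], 1),
   ([1, 2, 0, 0, 0, 2, 1, 1, 2, 0, 0, 3, 1, 1, 1, 3, 0, 3, 3], 1),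
   ([0, 3, 1, 1, 3, 0, 3, 1, 2, 0, 2, 1, 2, 0, 0, 2, 1, 3, 3], 1),
   ([1, 3, 1, 1, 2, 0, 0, 0, 2, 1, 1, 1, 3, 0, 0, 2, 0, 3, 3], 1),
   ([0, 3, 1, 1, 1, 3, 0, 0, 2, 1, 1, 2, 0, 0, 0, 2, 1, 3, 3], 1),
   ([1, 2, 0, 0, 0, 3, 0, 0, 2, 1, 1, 2, 1, 1, 1, 3, 0, 3, 3], 1),
   ([2, 1, 3, 3, 1, 2, 1, 3, 0, 2, 0, 3, 0, 2, 2, 0, 3, 1, 1], 1),
   ([3, 0, 2, 2, 2, 1, 2, 2, 0, 3, 3, 0, 3, 3, 3, 1, 2, 1, 1], 1),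
   ([3, 1, 3, 3, 0, 2, 2, 2, 0, 3, 3, 3, 1, 2, 2, 0, 2, 1, 1], 1),
   ([1, 3, 0, 3, 1, 1, 3, 0, 2, 1, 2, 0, 0, 2, 1, 2, 0, 2, 2, 2], 1),
   ([1, 2, 2, 1, 1, 2, 0, 3, 0, 2, 1, 2, 1, 3, 0, 0, 3, 3, 0, 3], 1),
   ([2, 2, 2, 0, 3, 3, 1, 3, 0, 2, 0, 2, 2, 1, 3, 3, 3, 0, 0, 0], 1),
   ([3, 0, 2, 1, 1, 2, 2, 1, 3, 0, 2, 0, 3, 3, 0, 0, 3, 1, 2, 1], 1),
   ([2, 1, 1, 2, 2, 1, 3, 0, 3, 0, 2, 1, 2, 0, 3, 3, 0, 0, 3, 1], 1),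
   ([2, 2, 1, 1, 2, 0, 3, 0, 3, 0, 2, 1, 2, 1, 3, 0, 0, 3, 3, 1], 1),
   ([3, 1, 2, 2, 1, 1, 2, 0, 3, 0, 2, 1, 3, 0, 0, 3, 3, 0, 2, 1], 1),
   ([2, 2, 1, 1, 3, 3, 3, 3, 3, 0, 2, 2, 2, 2, 2, 0, 0, 3, 3, 1], 1),
   ([2, 0, 3, 3, 0, 0, 3, 1, 2, 0, 3, 0, 2, 1, 1, 2, 2, 1, 3, 1], 1),
   ([3, 1, 2, 1, 3, 3, 1, 2, 0, 3, 0, 2, 2, 0, 3, 0, 2, 0, 0, 0], 1),
   ([2, 2, 1, 3, 3, 3, 1, 2, 0, 3, 0, 2, 2, 2, 0, 3, 3, 0, 0, 0], 1),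
   ([0, 1], 1),
   ([1, 0], 1),
   ([2, 3], 1),
   ([3, 2], 1),
   ([], 1)]

theorem hspecs : baseL = specs.map (fun s => wpow s.1 s.2) := by
  decide +kernel

theorem hfix2 : ∀ i < tN, (Fn.applyW TT (([0, 0, 3, 0, 3, 0, 3, 1, 2, 0, 2, 1, 2, 1, 2, 1, 1, 3] : List ℕ), 1).1)^[(([0, 0, 3, 0, 3, 0, 3, 1, 2, 0, 2, 1, 2, 1, 2, 1, 1, 3] : List ℕ), 1).2] i = i :=
  Fn.fix_of_rangeOK (Fn.rangeOK_step hm2_1 rfl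
    (Fn.rangeOK_step hm2_0 rfl
    (Fn.rangeOK_start TT [0, 0, 3, 0, 3, 0, 3, 1, 2, 0, 2, 1, 2, 1, 2, 1, 1, 3] 1 tN)))

theorem hfix3 : ∀ i < tN, (Fn.applyW TT (([3, 0, 0, 3, 3, 0, 0, 3, 0, 2, 1, 1, 2, 2, 1, 1, 2, 1] : List ℕ), 1).1)^[(([3, 0, 0, 3, 3, 0, 0, 3, 0, 2, 1, 1, 2, 2, 1, 1, 2, 1] : List ℕ), 1).2] i = i :=
  Fn.fix_of_rangeOK (Fn.rangeOK_step hm3_1 rfl
    (Fn.rangeOK_step hm3_0 rfl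
    (Fn.rangeOK_start TT [3, 0, 0, 3, 3, 0, 0, 3, 0, 2, 1, 1, 2, 2, 1, 1, 2, 1] 1 tN)))

theorem hfix4 : ∀ i < tN, (Fn.applyW TT (([2, 1, 1, 2, 2, 1, 1, 2, 0, 3, 0, 0, 3, 3, 0, 0, 3, 1] : List ℕ), 1).1)^[(([2, 1, 1, 2, 2, 1, 1, 2, 0, 3, 0, 0, 3, 3, 0, 0, 3, 1] : List ℕ), 1).2] i = i :=
  Fn.fix_of_rangeOK (Fn.rangeOK_step hm4_1 rfl
    (Fn.rangeOK_step hm4_0 rfl
    (Fn.rangeOK_start TT [2, 1, 1, 2, 2, 1, 1, 2, 0, 3, 0, 0, 3, 3, 0, 0, 3, 1] 1 tN)))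

theorem hfix5 : ∀ i < tN, (Fn.applyW TT (([2, 0, 3, 0, 3, 1, 2, 2, 0, 3, 3, 0, 2, 1, 2, 1, 3, 1] : List ℕ), 1).1)^[(([2, 0, 3, 0, 3, 1, 2, 2, 0, 3, 3, 0, 2, 1, 2, 1, 3, 1] : List ℕ), 1).2] i = i :=
  Fn.fix_of_rangeOK (Fn.rangeOK_step hm5_1 rfl
    (Fn.rangeOK_step hm5_0 rfl
    (Fn.rangeOK_start TT [2, 0, 3, 0, 3, 1, 2, 2, 0, 3, 3, 0, 2, 1, 2, 1, 3, 1] 1 tN)))

theorem hfix6 : ∀ i < tN, (Fn.applyW TT (([3, 1, 2, 1, 2, 1, 2, 2, 0, 3, 3, 0, 3, 0, 3, 0, 2, 1] : List ℕ), 1).1)^[(([3, 1, 2, 1, 2, 1, 2, 2, 0, 3, 3, 0, 3, 0, 3, 0, 2, 1] : List ℕ), 1).2] i = i :=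
  Fn.fix_of_rangeOK (Fn.rangeOK_step hm6_1 rfl
    (Fn.rangeOK_step hm6_0 rfl
    (Fn.rangeOK_start TT [3, 1, 2, 1, 2, 1, 2, 2, 0, 3, 3, 0, 3, 0, 3, 0, 2, 1] 1 tN)))

theorem hfix7 : ∀ i < tN, (Fn.applyW TT (([0, 2, 0, 0, 3, 1, 1, 1, 2, 0, 0, 0, 2, 1, 1, 3, 1, 3, 3] : List ℕ), 1).1)^[(([0, 2, 0, 0, 3, 1, 1, 1, 2, 0, 0, 0, 2, 1, 1, 3, 1, 3, 3] : List ℕ), 1).2] i = i :=
  Fn.fix_of_rangeOK (Fn.rangeOK_step hm7_1 rfl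
    (Fn.rangeOK_step hm7_0 rfl
    (Fn.rangeOK_start TT [0, 2, 0, 0, 3, 1, 1, 1, 2, 0, 0, 0, 2, 1, 1, 3, 1, 3, 3] 1 tN)))

theorem hfix8 : ∀ i < tN, (Fn.applyW TT (([1, 2, 0, 0, 0, 2, 1, 1, 2, 0, 0, 3, 1, 1, 1, 3, 0, 3, 3] : List ℕ), 1).1)^[(([1, 2, 0, 0, 0, 2, 1, 1, 2, 0, 0, 3, 1, 1, 1, 3, 0, 3, 3] : List ℕ), 1).2] i = i :=
  Fn.fix_of_rangeOK (Fn.rangeOK_step hm8_1 rfl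
    (Fn.rangeOK_step hm8_0 rfl
    (Fn.rangeOK_start TT [1, 2, 0, 0, 0, 2, 1, 1, 2, 0, 0, 3, 1, 1, 1, 3, 0, 3, 3] 1 tN)))

theorem hfix9 : ∀ i < tN, (Fn.applyW TT (([0, 3, 1, 1, 3, 0, 3, 1, 2, 0, 2, 1, 2, 0, 0, 2, 1, 3, 3] : List ℕ), 1).1)^[(([0, 3, 1, 1, 3, 0, 3, 1, 2, 0, 2, 1, 2, 0, 0, 2, 1, 3, 3] : List ℕ), 1).2] i = i :=
  Fn.fix_of_rangeOK (Fn.rangeOK_step hm9_1 rfl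
    (Fn.rangeOK_step hm9_0 rfl
    (Fn.rangeOK_start TT [0, 3, 1, 1, 3, 0, 3, 1, 2, 0, 2, 1, 2, 0, 0, 2, 1, 3, 3] 1 tN)))

theorem hfix10 : ∀ i < tN, (Fn.applyW TT (([1, 3, 1, 1, 2, 0, 0, 0, 2, 1, 1, 1, 3, 0, 0, 2, 0, 3, 3] : List ℕ), 1).1)^[(([1, 3, 1, 1, 2, 0, 0, 0, 2, 1, 1, 1, 3, 0, 0, 2, 0, 3, 3] : List ℕ), 1).2] i = i :=
  Fn.fix_of_rangeOK (Fn.rangeOK_step hm10_1 rfl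
    (Fn.rangeOK_step hm10_0 rfl
    (Fn.rangeOK_start TT [1, 3, 1, 1, 2, 0, 0, 0, 2, 1, 1, 1, 3, 0, 0, 2, 0, 3, 3] 1 tN)))

theorem hfix11 : ∀ i < tN, (Fn.applyW TT (([0, 3, 1, 1, 1, 3, 0, 0, 2, 1, 1, 2, 0, 0, 0, 2, 1, 3, 3] : List ℕ), 1).1)^[(([0, 3, 1, 1, 1, 3, 0, 0, 2, 1, 1, 2, 0, 0, 0, 2, 1, 3, 3] : List ℕ), 1).2] i = i :=
  Fn.fix_of_rangeOK (Fn.rangeOK_step hm11_1 rfl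
    (Fn.rangeOK_step hm11_0 rfl
    (Fn.rangeOK_start TT [0, 3, 1, 1, 1, 3, 0, 0, 2, 1, 1, 2, 0, 0, 0, 2, 1, 3, 3] 1 tN)))

theorem hfix12 : ∀ i < tN, (Fn.applyW TT (([1, 2, 0, 0, 0, 3, 0, 0, 2, 1, 1, 2, 1, 1, 1, 3, 0, 3, 3] : List ℕ), 1).1)^[(([1, 2, 0, 0, 0, 3, 0, 0, 2, 1, 1, 2, 1, 1, 1, 3, 0, 3, 3] : List ℕ), 1).2] i = i :=
  Fn.fix_of_rangeOK (Fn.rangeOK_step hm12_1 rfl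
    (Fn.rangeOK_step hm12_0 rfl
    (Fn.rangeOK_start TT [1, 2, 0, 0, 0, 3, 0, 0, 2, 1, 1, 2, 1, 1, 1, 3, 0, 3, 3] 1 tN)))

theorem hfix13 : ∀ i < tN, (Fn.applyW TT (([2, 1, 3, 3, 1, 2, 1, 3, 0, 2, 0, 3, 0, 2, 2, 0, 3, 1, 1] : List ℕ), 1).1)^[(([2, 1, 3, 3, 1, 2, 1, 3, 0, 2, 0, 3, 0, 2, 2, 0, 3, 1, 1] : List ℕ), 1).2] i = i :=
  Fn.fix_of_rangeOK (Fn.rangeOK_step hm13_1 rfl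
    (Fn.rangeOK_step hm13_0 rfl
    (Fn.rangeOK_start TT [2, 1, 3, 3, 1, 2, 1, 3, 0, 2, 0, 3, 0, 2, 2, 0, 3, 1, 1] 1 tN)))

theorem hfix14 : ∀ i < tN, (Fn.applyW TT (([3, 0, 2, 2, 2, 1, 2, 2, 0, 3, 3, 0, 3, 3, 3, 1, 2, 1, 1] : List ℕ), 1).1)^[(([3, 0, 2, 2, 2, 1, 2, 2, 0, 3, 3, 0, 3, 3, 3, 1, 2, 1, 1] : List ℕ), 1).2] i = i :=
  Fn.fix_of_rangeOK (Fn.rangeOK_step hm14_1 rfl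
    (Fn.rangeOK_step hm14_0 rfl
    (Fn.rangeOK_start TT [3, 0, 2, 2, 2, 1, 2, 2, 0, 3, 3, 0, 3, 3, 3, 1, 2, 1, 1] 1 tN)))

theorem hfix15 : ∀ i < tN, (Fn.applyW TT (([3, 1, 3, 3, 0, 2, 2, 2, 0, 3, 3, 3, 1, 2, 2, 0, 2, 1, 1] : List ℕ), 1).1)^[(([3, 1, 3, 3, 0, 2, 2, 2, 0, 3, 3, 3, 1, 2, 2, 0, 2, 1, 1] : List ℕ), 1).2] i = i :=
  Fn.fix_of_rangeOK (Fn.rangeOK_step hm15_1 rfl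
    (Fn.rangeOK_step hm15_0 rfl
    (Fn.rangeOK_start TT [3, 1, 3, 3, 0, 2, 2, 2, 0, 3, 3, 3, 1, 2, 2, 0, 2, 1, 1] 1 tN)))

theorem hfix16 : ∀ i < tN, (Fn.applyW TT (([1, 3, 0, 3, 1, 1, 3, 0, 2, 1, 2, 0, 0, 2, 1, 2, 0, 2, 2, 2] : List ℕ), 1).1)^[(([1, 3, 0, 3, 1, 1, 3, 0, 2, 1, 2, 0, 0, 2, 1, 2, 0, 2, 2, 2] : List ℕ), 1).2] i = i :=
  Fn.fix_of_rangeOK (Fn.rangeOK_step hm16_1 rfl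
    (Fn.rangeOK_step hm16_0 rfl
    (Fn.rangeOK_start TT [1, 3, 0, 3, 1, 1, 3, 0, 2, 1, 2, 0, 0, 2, 1, 2, 0, 2, 2, 2] 1 tN)))

theorem hfix17 : ∀ i < tN, (Fn.applyW TT (([1, 2, 2, 1, 1, 2, 0, 3, 0, 2, 1, 2, 1, 3, 0, 0, 3, 3, 0, 3] : List ℕ), 1).1)^[(([1, 2, 2, 1, 1, 2, 0, 3, 0, 2, 1, 2, 1, 3, 0, 0, 3, 3, 0, 3] : List ℕ), 1).2] i = i :=
  Fn.fix_of_rangeOK (Fn.rangeOK_step hm17_1 rfl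
    (Fn.rangeOK_step hm17_0 rfl
    (Fn.rangeOK_start TT [1, 2, 2, 1, 1, 2, 0, 3, 0, 2, 1, 2, 1, 3, 0, 0, 3, 3, 0, 3] 1 tN)))

theorem hfix18 : ∀ i < tN, (Fn.applyW TT (([2, 2, 2, 0, 3, 3, 1, 3, 0, 2, 0, 2, 2, 1, 3, 3, 3, 0, 0, 0] : List ℕ), 1).1)^[(([2, 2, 2, 0, 3, 3, 1, 3, 0, 2, 0, 2, 2, 1, 3, 3, 3, 0, 0, 0] : List ℕ), 1).2] i = i :=
  Fn.fix_of_rangeOK (Fn.rangeOK_step hm18_1 rfl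
    (Fn.rangeOK_step hm18_0 rfl
    (Fn.rangeOK_start TT [2, 2, 2, 0, 3, 3, 1, 3, 0, 2, 0, 2, 2, 1, 3, 3, 3, 0, 0, 0] 1 tN)))

theorem hfix19 : ∀ i < tN, (Fn.applyW TT (([3, 0, 2, 1, 1, 2, 2, 1, 3, 0, 2, 0, 3, 3, 0, 0, 3, 1, 2, 1] : List ℕ), 1).1)^[(([3, 0, 2, 1, 1, 2, 2, 1, 3, 0, 2, 0, 3, 3, 0, 0, 3, 1, 2, 1] : List ℕ), 1).2] i = i :=
  Fn.fix_of_rangeOK (Fn.rangeOK_step hm19_1 rfl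
    (Fn.rangeOK_step hm19_0 rfl
    (Fn.rangeOK_start TT [3, 0, 2, 1, 1, 2, 2, 1, 3, 0, 2, 0, 3, 3, 0, 0, 3, 1, 2, 1] 1 tN)))

theorem hfix20 : ∀ i < tN, (Fn.applyW TT (([2, 1, 1, 2, 2, 1, 3, 0, 3, 0, 2, 1, 2, 0, 3, 3, 0, 0, 3, 1] : List ℕ), 1).1)^[(([2, 1, 1, 2, 2, 1, 3, 0, 3, 0, 2, 1, 2, 0, 3, 3, 0, 0, 3, 1] : List ℕ), 1).2] i = i :=
  Fn.fix_of_rangeOK (Fn.rangeOK_step hm20_1 rfl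
    (Fn.rangeOK_step hm20_0 rfl
    (Fn.rangeOK_start TT [2, 1, 1, 2, 2, 1, 3, 0, 3, 0, 2, 1, 2, 0, 3, 3, 0, 0, 3, 1] 1 tN)))

theorem hfix21 : ∀ i < tN, (Fn.applyW TT (([2, 2, 1, 1, 2, 0, 3, 0, 3, 0, 2, 1, 2, 1, 3, 0, 0, 3, 3, 1] : List ℕ), 1).1)^[(([2, 2, 1, 1, 2, 0, 3, 0, 3, 0, 2, 1, 2, 1, 3, 0, 0, 3, 3, 1] : List ℕ), 1).2] i = i :=
  Fn.fix_of_rangeOK (Fn.rangeOK_step hm21_1 rfl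
    (Fn.rangeOK_step hm21_0 rfl
    (Fn.rangeOK_start TT [2, 2, 1, 1, 2, 0, 3, 0, 3, 0, 2, 1, 2, 1, 3, 0, 0, 3, 3, 1] 1 tN)))

theorem hfix22 : ∀ i < tN, (Fn.applyW TT (([3, 1, 2, 2, 1, 1, 2, 0, 3, 0, 2, 1, 3, 0, 0, 3, 3, 0, 2, 1] : List ℕ), 1).1)^[(([3, 1, 2, 2, 1, 1, 2, 0, 3, 0, 2, 1, 3, 0, 0, 3, 3, 0, 2, 1] : List ℕ), 1).2] i = i :=
  Fn.fix_of_rangeOK (Fn.rangeOK_step hm22_1 rfl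
    (Fn.rangeOK_step hm22_0 rfl
    (Fn.rangeOK_start TT [3, 1, 2, 2, 1, 1, 2, 0, 3, 0, 2, 1, 3, 0, 0, 3, 3, 0, 2, 1] 1 tN)))

theorem hfix23 : ∀ i < tN, (Fn.applyW TT (([2, 2, 1, 1, 3, 3, 3, 3, 3, 0, 2, 2, 2, 2, 2, 0, 0, 3, 3, 1] : List ℕ), 1).1)^[(([2, 2, 1, 1, 3, 3, 3, 3, 3, 0, 2, 2, 2, 2, 2, 0, 0, 3, 3, 1] : List ℕ), 1).2] i = i :=
  Fn.fix_of_rangeOK (Fn.rangeOK_step hm23_1 rfl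
    (Fn.rangeOK_step hm23_0 rfl
    (Fn.rangeOK_start TT [2, 2, 1, 1, 3, 3, 3, 3, 3, 0, 2, 2, 2, 2, 2, 0, 0, 3, 3, 1] 1 tN)))

theorem hfix24 : ∀ i < tN, (Fn.applyW TT (([2, 0, 3, 3, 0, 0, 3, 1, 2, 0, 3, 0, 2, 1, 1, 2, 2, 1, 3, 1] : List ℕ), 1).1)^[(([2, 0, 3, 3, 0, 0, 3, 1, 2, 0, 3, 0, 2, 1, 1, 2, 2, 1, 3, 1] : List ℕ), 1).2] i = i :=
  Fn.fix_of_rangeOK (Fn.rangeOK_step hm24_1 rfl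
    (Fn.rangeOK_step hm24_0 rfl
    (Fn.rangeOK_start TT [2, 0, 3, 3, 0, 0, 3, 1, 2, 0, 3, 0, 2, 1, 1, 2, 2, 1, 3, 1] 1 tN)))

theorem hfix25 : ∀ i < tN, (Fn.applyW TT (([3, 1, 2, 1, 3, 3, 1, 2, 0, 3, 0, 2, 2, 0, 3, 0, 2, 0, 0, 0] : List ℕ), 1).1)^[(([3, 1, 2, 1, 3, 3, 1, 2, 0, 3, 0, 2, 2, 0, 3, 0, 2, 0, 0, 0] : List ℕ), 1).2] i = i :=
  Fn.fix_of_rangeOK (Fn.rangeOK_step hm25_1 rfl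
    (Fn.rangeOK_step hm25_0 rfl
    (Fn.rangeOK_start TT [3, 1, 2, 1, 3, 3, 1, 2, 0, 3, 0, 2, 2, 0, 3, 0, 2, 0, 0, 0] 1 tN)))

theorem hfix26 : ∀ i < tN, (Fn.applyW TT (([2, 2, 1, 3, 3, 3, 1, 2, 0, 3, 0, 2, 2, 2, 0, 3, 3, 0, 0, 0] : List ℕ), 1).1)^[(([2, 2, 1, 3, 3, 3, 1, 2, 0, 3, 0, 2, 2, 2, 0, 3, 3, 0, 0, 0] : List ℕ), 1).2] i = i :=
  Fn.fix_of_rangeOK (Fn.rangeOK_step hm26_1 rfl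
    (Fn.rangeOK_step hm26_0 rfl
    (Fn.rangeOK_start TT [2, 2, 1, 3, 3, 3, 1, 2, 0, 3, 0, 2, 2, 2, 0, 3, 3, 0, 0, 0] 1 tN)))

theorem hfixall : Fn.FixAll TT tN specs :=
  Fn.fixAll_cons (Fn.fix_of_marksK hm0)
    (Fn.fixAll_cons (Fn.fix_of_marksK hm1)
    (Fn.fixAll_cons hfix2
    (Fn.fixAll_cons hfix3
    (Fn.fixAll_cons hfix4
    (Fn.fixAll_cons hfix5
    (Fn.fixAll_cons hfix6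
    (Fn.fixAll_cons hfix7
    (Fn.fixAll_cons hfix8
    (Fn.fixAll_cons hfix9
    (Fn.fixAll_cons hfix10
    (Fn.fixAll_cons hfix11
    (Fn.fixAll_cons hfix12
    (Fn.fixAll_cons hfix13
    (Fn.fixAll_cons hfix14
    (Fn.fixAll_cons hfix15
    (Fn.fixAll_cons hfix16
    (Fn.fixAll_cons hfix17
    (Fn.fixAll_cons hfix18
    (Fn.fixAll_cons hfix19
    (Fn.fixAll_cons hfix20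
    (Fn.fixAll_cons hfix21
    (Fn.fixAll_cons hfix22
    (Fn.fixAll_cons hfix23
    (Fn.fixAll_cons hfix24
    (Fn.fixAll_cons hfix25
    (Fn.fixAll_cons hfix26
    (Fn.fixAll_cons (Fn.fix_of_marksK hm27)
    (Fn.fixAll_cons (Fn.fix_of_marksK hm28)
    (Fn.fixAll_cons (Fn.fix_of_marksK hm29)
    (Fn.fixAll_cons (Fn.fix_of_marksK hm30)
    (Fn.fixAll_cons (Fn.fix_of_marksK hm31)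
    (Fn.fixAll_nil TT tN))))))))))))))))))))))))))))))))

theorem hrels : Fn.relsK TT cN baseL = true := by
  rw [hspecs]
  exact Fn.relsK_of_fixAll hfixall

theorem hsub : Fn.subK TT 4 sw = true := by decide +kernel

theorem htrans : Fn.transK TT 4 cN sw = true := by decide +kernel

end Cfsg.Agent.Lib.Helper12.TCG.SuzQa6048
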