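import Cfsg.Agent.Lib.Helper12.TCG.SuzQa6048.Chk0
import Cfsg.Agent.Lib.Helper12.TCG.SuzQa6048.Perm
import Cfsg.Agent.Lib.Helper12.TCG.SuzQa6048.Fin

/-! the index theorem for SuzQa6048 (generated, helper12) -/

set_option autoImplicit false
set_option maxRecDepth 100000
set_option linter.unusedSimpArgs false

namespace Cfsg.Agent.Lib.Helper12.TCG.SuzQa6048

open Cfsg.Agent.Lib.Helper12.TC Cfsg.Agent.Lib.Helper12.TCG Cfsg.Agent.Lib.Helper12.SuzM.Pres2

/-- the chunks of the certificate -/
def chunks : List (ℕ × List ℕ) :=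
  [(12233, c0), (14233, c1), (16233, c2), (18233, c3), (20233, c4), (22233, c5), (24233, c6), (26233, c7)]

theorem hcover : coverK cD cK chunks = true := by decide +kernel

theorem hchunks : ∀ c ∈ chunks, chunkW cIV F RW cR0 c.2 c.1 = true := by
  unfold chunks
  simp only [List.forall_mem_cons, List.not_mem_nil, false_imp_iff, implies_true, and_true]
  exact ⟨chunk0, chunk1, chunk2, chunk3, chunk4, chunk5, chunk6, chunk7⟩

end Cfsg.Agent.Lib.Helper12.TCG.SuzQa6048
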